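import Mathlib

/-!
# Fixed points of a coprime automorphism inside `[H, P]`: basic lemmas
-/

set_option autoImplicit false

open Subgroup

namespace CfsgLib.FixedComm

universe u

variable {H : Type u} [Group H]

/-- `[h, P]`. -/
def gs (x : MulAut H) (h : H) : Subgroup H :=
  closure {c | ∃ i : ℕ, c = h⁻¹ * (x ^ i) h}

/-- `[M, P]`. -/
def cm (x : MulAut H) (M : Subgroup H) : Subgroup H :=
  closure {c | ∃ h ∈ M, ∃ i : ℕ, c = h⁻¹ * (x ^ i) h}

/-- The fixed points. -/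
def fx (x : MulAut H) : Subgroup H := (x : H →* H).eqLocus (MonoidHom.id H)

/-- The subgroup generated by the fixed points of the subgroups `[h, P]`. -/
def fk (x : MulAut H) : Subgroup H := ⨆ h : H, gs x h ⊓ fx x

/-- Invariance under the automorphism. -/
def Inv (x : MulAut H) (M : Subgroup H) : Prop := ∀ m ∈ M, x m ∈ M

variable {x : MulAut H}

theorem mem_fx {c : H} : c ∈ fx x ↔ x c = c := Iff.rfl

theorem pow_succ_apply (i : ℕ) (h : H) : (x ^ (i + 1)) h = x ((x ^ i) h) := by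
  rw [pow_succ']; rfl

theorem fx_pow {c : H} (hc : c ∈ fx x) (i : ℕ) : (x ^ i) c = c := by
  induction i with
  | zero => rfl
  | succ i ih => rw [pow_succ_apply, ih]; exact hc

theorem Inv.pow {M : Subgroup H} (hM : Inv x M) {m : H} (hm : m ∈ M) (i : ℕ) : (x ^ i) m ∈ M := by
  induction i with
  | zero => exact hm
  | succ i ih => rw [pow_succ_apply]; exact hM _ ih

theorem inv_closure {S : Set H} (h : ∀ s ∈ S, x s ∈ closure S) : Inv x (closure S) := fun m hm => by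
  induction hm using Subgroup.closure_induction with
  | mem s hs => exact h s hs
  | one => rw [map_one]; exact Subgroup.one_mem _
  | mul a b _ _ ha hb => rw [map_mul]; exact Subgroup.mul_mem _ ha hb
  | inv a _ ha => rw [map_inv]; exact Subgroup.inv_mem _ ha

theorem inv_gs (h : H) : Inv x (gs x h) := by
  refine inv_closure ?_
  rintro _ ⟨i, rfl⟩
  have e : x (h⁻¹ * (x ^ i) h) = (h⁻¹ * (x ^ 1) h)⁻¹ * (h⁻¹ * (x ^ (i + 1)) h) := by
    rw [map_mul, map_inv, pow_one, pow_succ_apply]; group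
  rw [e]
  exact Subgroup.mul_mem _ (Subgroup.inv_mem _ (subset_closure ⟨1, rfl⟩)) (subset_closure ⟨i + 1, rfl⟩)

theorem inv_cm {M : Subgroup H} (hM : Inv x M) : Inv x (cm x M) := by
  refine inv_closure ?_
  rintro _ ⟨h, hh, i, rfl⟩
  refine subset_closure ⟨x h, hM h hh, i, ?_⟩
  rw [map_mul, map_inv, ← pow_succ_apply, pow_succ]; rfl

theorem inv_inf {M N : Subgroup H} (hM : Inv x M) (hN : Inv x N) : Inv x (M ⊓ N) :=
  fun m hm => ⟨hM m hm.1, hN m hm.2⟩

theorem inv_sup {M N : Subgroup H} (hM : Inv x M) (hN : Inv x N) : Inv x (M ⊔ N) := by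
  have : M ⊔ N ≤ (M ⊔ N).comap (x : H →* H) :=
    sup_le (fun m hm => mem_sup_left (hM m hm)) (fun m hm => mem_sup_right (hN m hm))
  exact fun m hm => this hm

theorem inv_commutator {M N : Subgroup H} (hM : Inv x M) (hN : Inv x N) : Inv x ⁅M, N⁆ := by
  have : ⁅M, N⁆ ≤ ⁅M, N⁆.comap (x : H →* H) := by
    rw [Subgroup.commutator_le]
    intro a ha b hb
    rw [mem_comap, map_commutatorElement]
    exact commutator_mem_commutator (hM a ha) (hN b hb)
  exact fun m hm => this hm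

theorem inv_top : Inv x (⊤ : Subgroup H) := fun _ _ => mem_top _

theorem gs_mem (h : H) (i : ℕ) : h⁻¹ * (x ^ i) h ∈ gs x h := subset_closure ⟨i, rfl⟩

theorem gs_mem_one (h : H) : h⁻¹ * x h ∈ gs x h := subset_closure ⟨1, by rw [pow_one]⟩

theorem cm_mem {M : Subgroup H} {h : H} (hh : h ∈ M) (i : ℕ) : h⁻¹ * (x ^ i) h ∈ cm x M :=
  subset_closure ⟨h, hh, i, rfl⟩

theorem gs_le_cm {M : Subgroup H} {h : H} (hh : h ∈ M) : gs x h ≤ cm x M := by
  rw [gs, closure_le]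
  rintro _ ⟨i, rfl⟩
  exact cm_mem hh i

theorem cm_le {M : Subgroup H} (hM : Inv x M) : cm x M ≤ M := by
  rw [cm, closure_le]
  rintro _ ⟨h, hh, i, rfl⟩
  exact M.mul_mem (M.inv_mem hh) (hM.pow hh i)

theorem cm_mono {M N : Subgroup H} (h : M ≤ N) : cm x M ≤ cm x N := by
  apply Subgroup.closure_mono
  rintro _ ⟨a, ha, i, rfl⟩
  exact ⟨a, h ha, i, rfl⟩

theorem cm_conj {M : Subgroup H} {g a : H} (hg : g ∈ M) (ha : a ∈ cm x M) :
    g * a * g⁻¹ ∈ cm x M := by
  induction ha using Subgroup.closure_induction with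
  | mem s hs =>
    obtain ⟨h, hh, i, rfl⟩ := hs
    have e : g * (h⁻¹ * (x ^ i) h) * g⁻¹ =
        (h * g⁻¹)⁻¹ * (x ^ i) (h * g⁻¹) * ((g⁻¹)⁻¹ * (x ^ i) g⁻¹)⁻¹ := by
      rw [map_mul, map_inv]; group
    rw [e]
    exact Subgroup.mul_mem _ (cm_mem (M.mul_mem hh (M.inv_mem hg)) i)
      (Subgroup.inv_mem _ (cm_mem (M.inv_mem hg) i))
  | one => simp
  | mul a b _ _ ha hb =>
    rw [show g * (a * b) * g⁻¹ = (g * a * g⁻¹) * (g * b * g⁻¹) by group]
    exact Subgroup.mul_mem _ ha hb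
  | inv a _ ha =>
    rw [show g * a⁻¹ * g⁻¹ = (g * a * g⁻¹)⁻¹ by group]
    exact Subgroup.inv_mem _ ha

theorem cm_fx_conj {M : Subgroup H} [M.Normal] {c a : H} (hc : c ∈ fx x) (ha : a ∈ cm x M) :
    c * a * c⁻¹ ∈ cm x M := by
  induction ha using Subgroup.closure_induction with
  | mem s hs =>
    obtain ⟨h, hh, i, rfl⟩ := hs
    have e : c * (h⁻¹ * (x ^ i) h) * c⁻¹ = (c * h * c⁻¹)⁻¹ * (x ^ i) (c * h * c⁻¹) := by
      rw [map_mul, map_mul, map_inv, fx_pow hc i]; group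
    rw [e]
    exact cm_mem (Subgroup.Normal.conj_mem inferInstance h hh c) i
  | one => simp
  | mul a b _ _ ha hb =>
    rw [show c * (a * b) * c⁻¹ = (c * a * c⁻¹) * (c * b * c⁻¹) by group]
    exact Subgroup.mul_mem _ ha hb
  | inv a _ ha =>
    rw [show c * a⁻¹ * c⁻¹ = (c * a * c⁻¹)⁻¹ by group]
    exact Subgroup.inv_mem _ ha

theorem fk_le_fx : fk x ≤ fx x := iSup_le fun _ => inf_le_right

theorem mem_fk {h c : H} (hc : c ∈ gs x h) (hf : c ∈ fx x) : c ∈ fk x :=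
  mem_iSup_of_mem h ⟨hc, hf⟩

theorem fk_le_cm : fk x ≤ cm x ⊤ := iSup_le fun _ => inf_le_left.trans (gs_le_cm (mem_top _))

theorem fk_fx_conj {c k : H} (hc : c ∈ fx x) (hk : k ∈ fk x) : c * k * c⁻¹ ∈ fk x := by
  have hle : fk x ≤ (fk x).comap (MulAut.conj c).toMonoidHom := by
    refine iSup_le fun h => ?_
    rintro k ⟨hk1, hk2⟩
    show (MulAut.conj c).toMonoidHom k ∈ fk x
    simp only [MulEquiv.coe_toMonoidHom, MulAut.conj_apply]
    refine mem_fk (h := h * c⁻¹) ?_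
      (Subgroup.mul_mem _ (Subgroup.mul_mem _ hc hk2) (Subgroup.inv_mem _ hc))
    have : gs x h ≤ (gs x (h * c⁻¹)).comap (MulAut.conj c).toMonoidHom := by
      rw [gs, closure_le]
      rintro _ ⟨i, rfl⟩
      show c * (h⁻¹ * (x ^ i) h) * c⁻¹ ∈ gs x (h * c⁻¹)
      have e : c * (h⁻¹ * (x ^ i) h) * c⁻¹ = (h * c⁻¹)⁻¹ * (x ^ i) (h * c⁻¹) := by
        rw [map_mul, map_inv, fx_pow hc i]; group
      rw [e]; exact gs_mem _ i
    exact this hk1
  exact hle hk

theorem gs_fx_mul {c : H} (hc : c ∈ fx x) (n : H) : gs x (c * n) = gs x n := by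
  unfold gs
  congr 1
  ext e
  simp only [Set.mem_setOf_eq, map_mul, fx_pow hc, mul_inv_rev, mul_assoc, inv_mul_cancel_left]

variable [Finite H] {p : ℕ} [hp : Fact p.Prime]

/-- An invariant coset of an invariant subgroup contains a fixed element. -/
theorem exists_fixed (hx : x ^ p = 1) (hcop : (Nat.card H).Coprime p) {N : Subgroup H}
    (hN : Inv x N) {h : H} (hh : h⁻¹ * x h ∈ N) : ∃ c ∈ fx x, c⁻¹ * h ∈ N := by
  classical
  let T := {g : H // h⁻¹ * g ∈ N}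
  haveI : Fintype T := Fintype.ofFinite T
  let f : T → T := fun g => ⟨x g.1, by
    have e : h⁻¹ * x g.1 = (h⁻¹ * x h) * x (h⁻¹ * g.1) := by rw [map_mul, map_inv]; group
    rw [e]; exact N.mul_mem hh (hN _ g.2)⟩
  have hinj : Function.Injective f := fun a b e => Subtype.ext (x.injective (congrArg Subtype.val e))
  let σ : Equiv.Perm T := Equiv.ofBijective f (Finite.injective_iff_bijective.mp hinj)
  have hpow : ∀ i : ℕ, ∀ g : T, ((σ ^ i) g).1 = (x ^ i) g.1 := by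
    intro i
    induction i with
    | zero => intro g; rfl
    | succ i ih =>
      intro g
      rw [pow_succ', Equiv.Perm.mul_apply, pow_succ_apply, ← ih g]
      rfl
  have hσ : σ ^ p ^ 1 = 1 := Equiv.ext fun g => Subtype.ext (by rw [pow_one, hpow, hx]; rfl)
  have hcard : Fintype.card T = Nat.card N := by
    rw [← Nat.card_eq_fintype_card]
    exact Nat.card_congr ((Equiv.mulLeft h⁻¹).subtypeEquiv fun g => Iff.rfl)
  have hdvd : ¬p ∣ Fintype.card T := fun hd => by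
    rw [hcard] at hd
    have h1 : p ∣ Nat.card H := hd.trans N.card_subgroup_dvd_card
    exact hp.out.one_lt.ne' (Nat.dvd_one.mp (hcop ▸ Nat.dvd_gcd h1 dvd_rfl))
  obtain ⟨a, ha⟩ := Equiv.Perm.exists_fixed_point_of_prime hdvd hσ
  refine ⟨a.1, congrArg Subtype.val ha, ?_⟩
  have := N.inv_mem a.2
  simpa using this

theorem exists_gs_eq (hx : x ^ p = 1) (hcop : (Nat.card H).Coprime p) (h : H) :
    ∃ c ∈ fx x, ∃ n ∈ gs x h, h = c * n ∧ gs x n = gs x h := by
  obtain ⟨c, hc, hn⟩ := exists_fixed hx hcop (inv_gs h) (gs_mem_one h)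
  refine ⟨c, hc, c⁻¹ * h, hn, by group, ?_⟩
  rw [← gs_fx_mul hc (c⁻¹ * h)]; simp

theorem exists_cm_eq (hx : x ^ p = 1) (hcop : (Nat.card H).Coprime p) {M : Subgroup H}
    (hM : Inv x M) {h : H} (hh : h ∈ M) :
    ∃ c ∈ fx x, c ∈ M ∧ ∃ n ∈ cm x M, h = c * n := by
  obtain ⟨c, hc, n, hn, e, -⟩ := exists_gs_eq hx hcop h
  have hnM : n ∈ cm x M := gs_le_cm hh hn
  refine ⟨c, hc, ?_, n, hnM, e⟩
  rw [show c = h * n⁻¹ by rw [e]; group]
  exact M.mul_mem hh (M.inv_mem (cm_le hM hnM))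

theorem cm_cm (hx : x ^ p = 1) (hcop : (Nat.card H).Coprime p) :
    cm x (cm x ⊤) = cm x (⊤ : Subgroup H) := by
  refine le_antisymm (cm_mono le_top) ?_
  conv_lhs => unfold cm
  rw [closure_le]
  rintro _ ⟨h, -, i, rfl⟩
  obtain ⟨c, hc, -, n, hn, rfl⟩ := exists_cm_eq hx hcop inv_top (mem_top h)
  have e : (c * n)⁻¹ * (x ^ i) (c * n) = n⁻¹ * (x ^ i) n := by
    rw [map_mul, fx_pow hc i]; group
  rw [e]
  exact cm_mem hn i

end CfsgLib.FixedComm
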