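import Cfsg.Agent.Lib.FixedComm.Basic

/-!
# A minimal counterexample to fixed-point generation: central and supplemented normal subgroups
-/

set_option autoImplicit false

open Subgroup
open scoped commutatorElement Pointwise

namespace CfsgLib.FixedComm

universe u

variable {H : Type u} [Group H] [Finite H] {p : ℕ} [hp : Fact p.Prime] {x : MulAut H}

/-- The data of a minimal counterexample. -/
structure Bad (x : MulAut H) (p : ℕ) : Prop where
  sol : Group.IsSolvable H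
  odd : p ≠ 2
  pow : x ^ p = 1
  cop : (Nat.card H).Coprime p
  bad : ¬ fx x ≤ fk x
  top : cm x ⊤ = ⊤
  gsne : ∀ h, gs x h ≠ ⊤
  sub : ∀ M : Subgroup H, Inv x M → M ≠ ⊤ → cm x M ⊓ fx x ≤ fk x
  quo : ∀ N : Subgroup H, N.Normal → Inv x N → N ⊓ fx x ≤ fk x → N = ⊥

/-- Central and fixed. -/
def Tr (x : MulAut H) (M : Subgroup H) : Prop :=
  ∀ m ∈ M, x m = m ∧ ∀ g, g * m = m * g

variable (b : Bad x p)
include b

theorem Bad.central_one {z : H} (hz : ∀ g, g * z = z * g) (hk : z ∈ fk x) : z = 1 := by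
  have hN : (zpowers z).Normal := ⟨fun m hm g => by
    obtain ⟨k, rfl⟩ := mem_zpowers_iff.mp hm
    have hc : Commute g (z ^ k) := (show Commute g z from hz g).zpow_right k
    rw [hc.eq, mul_inv_cancel_right]; exact hm⟩
  have hle : zpowers z ≤ fk x := zpowers_le.mpr hk
  have hi : Inv x (zpowers z) := fun m hm => by
    rw [show x m = m from fk_le_fx (hle hm)]; exact hm
  exact zpowers_eq_bot.mp (b.quo _ hN hi (inf_le_left.trans hle))

theorem Bad.tr_bot {M : Subgroup H} (hM : Tr x M) (hk : M ≤ fk x) : M = ⊥ :=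
  (eq_bot_iff_forall _).mpr fun m hm => b.central_one (hM m hm).2 (hk hm)

theorem Bad.meet_le {M X : Subgroup H} (hM : Inv x M) (hX : Inv x X) (hX' : X ≠ ⊤) (hMX : M ≤ X) :
    cm x X ⊓ M ≤ cm x M ⊔ (fk x ⊓ M) := by
  rintro d ⟨hd1, hd2⟩
  obtain ⟨c, hc, hcM, n, hn, rfl⟩ := exists_cm_eq b.pow b.cop hM hd2
  have hcX : c ∈ cm x X := by
    rw [show c = (c * n) * n⁻¹ by group]
    exact (cm x X).mul_mem hd1 ((cm x X).inv_mem (cm_mono hMX hn))
  exact mul_mem (mem_sup_right ⟨b.sub X hX hX' ⟨hcX, hc⟩, hcM⟩) (mem_sup_left hn)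

theorem Bad.sup_fixed {M : Subgroup H} (hM : Inv x M) (hM' : M ≠ ⊤) :
    (cm x M ⊔ (fk x ⊓ M)) ⊓ fx x ≤ fk x := by
  rintro j ⟨hj, hjf⟩
  have hle : fk x ⊓ M ≤ normalizer (cm x M : Set H) := by
    intro g hg
    rw [mem_normalizer_iff]
    intro a
    refine ⟨fun ha => cm_conj hg.2 ha, fun ha => ?_⟩
    have := cm_conj (M.inv_mem hg.2) ha
    simpa [mul_assoc] using this
  have hj' : j ∈ (↑(cm x M) * ↑(fk x ⊓ M) : Set H) := by
    rw [← coe_mul_of_right_le_normalizer_left _ _ hle]; exact hj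
  obtain ⟨a, ha, k, hk, rfl⟩ := hj'
  have haf : a ∈ fx x := by
    rw [show a = (a * k) * k⁻¹ by group]
    exact (fx x).mul_mem hjf ((fx x).inv_mem (fk_le_fx hk.1))
  exact (fk x).mul_mem (b.sub M hM hM' ⟨ha, haf⟩) hk.1

/-- A normal invariant subgroup with no supplement `[h, P]` is central and fixed. -/
theorem Bad.tr_of_unsupp {M : Subgroup H} (hn : M.Normal) (hM : Inv x M) (hM' : M ≠ ⊤)
    (hsupp : ∀ n, n ∈ gs x n → M ⊔ gs x n ≠ ⊤) : Tr x M := by
  set J := cm x M ⊔ (fk x ⊓ M) with hJdef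
  have hJM : J ≤ M := sup_le (cm_le hM) inf_le_right
  have hJi : Inv x J := inv_sup (inv_cm hM) (inv_inf (fun k hk => by
    rw [show x k = k from fk_le_fx hk]; exact hk) hM)
  have key : ∀ g : H, ∀ m ∈ M, g * m * g⁻¹ * m⁻¹ ∈ J := by
    intro g
    have hg : g ∈ cm x ⊤ := by rw [b.top]; exact mem_top g
    induction hg using Subgroup.closure_induction with
    | mem s hs =>
      obtain ⟨h, -, i, rfl⟩ := hs
      intro m hm
      obtain ⟨c, -, n, hn', -, hgs⟩ := exists_gs_eq b.pow b.cop h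
      have hnn : n ∈ gs x n := hgs.symm ▸ hn'
      have hX : Inv x (M ⊔ gs x n) := inv_sup hM (inv_gs n)
      have he : h⁻¹ * (x ^ i) h ∈ cm x (M ⊔ gs x n) := by
        have := gs_mem (x := x) h i
        rw [← hgs] at this
        exact gs_le_cm (mem_sup_right hnn) this
      refine b.meet_le hM hX (hsupp n hnn) le_sup_left ⟨?_, ?_⟩
      · rw [show h⁻¹ * (x ^ i) h * m * (h⁻¹ * (x ^ i) h)⁻¹ * m⁻¹ =
          h⁻¹ * (x ^ i) h * (m * (h⁻¹ * (x ^ i) h)⁻¹ * m⁻¹) by group]
        exact (cm x _).mul_mem he (cm_conj (mem_sup_left hm) ((cm x _).inv_mem he))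
      · exact M.mul_mem (hn.conj_mem m hm _) (M.inv_mem hm)
    | one => intro m hm; simp
    | mul g₁ g₂ _ _ h₁ h₂ =>
      intro m hm
      rw [show g₁ * g₂ * m * (g₁ * g₂)⁻¹ * m⁻¹ =
        (g₁ * (g₂ * m * g₂⁻¹) * g₁⁻¹ * (g₂ * m * g₂⁻¹)⁻¹) * (g₂ * m * g₂⁻¹ * m⁻¹) by group]
      exact J.mul_mem (h₁ _ (hn.conj_mem m hm _)) (h₂ m hm)
    | inv g _ h₁ =>
      intro m hm
      have := J.inv_mem (h₁ _ (hn.conj_mem m hm g⁻¹))
      rw [show (g * (g⁻¹ * m * g⁻¹⁻¹) * g⁻¹ * (g⁻¹ * m * g⁻¹⁻¹)⁻¹)⁻¹ =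
        g⁻¹ * m * g⁻¹⁻¹ * m⁻¹ by group] at this
      exact this
  have hJn : J.Normal := ⟨fun j hj g => by
    rw [show g * j * g⁻¹ = (g * j * g⁻¹ * j⁻¹) * j by group]
    exact J.mul_mem (key g j (hJM hj)) hj⟩
  have hJ : J = ⊥ := b.quo J hJn hJi (b.sup_fixed hM hM')
  intro m hm
  refine ⟨?_, fun g => ?_⟩
  · have h1 : m⁻¹ * (x ^ 1) m ∈ J := mem_sup_left (cm_mem hm 1)
    rw [hJ, mem_bot, pow_one, inv_mul_eq_one] at h1
    exact h1.symm
  · have h1 := key g m hm
    rw [hJ, mem_bot, mul_inv_eq_one, mul_inv_eq_iff_eq_mul] at h1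
    exact h1

theorem Bad.exists_supp {M : Subgroup H} (hn : M.Normal) (hM : Inv x M) (hM' : M ≠ ⊤)
    (ht : ¬ Tr x M) : ∃ n, n ∈ gs x n ∧ M ⊔ gs x n = ⊤ := by
  by_contra h
  push_neg at h
  exact ht (b.tr_of_unsupp hn hM hM' h)

/-- The group is not abelian. -/
theorem Bad.not_comm : ¬ ∀ a c : H, a * c = c * a := by
  intro hc
  letI : CommGroup H := { ‹Group H› with mul_comm := hc }
  apply b.bad
  intro y hy
  let N : H →* H := ∏ i ∈ Finset.range p, ((x ^ i : MulAut H) : H →* H)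
  have hN : ∀ h, N h = ∏ i ∈ Finset.range p, (x ^ i) h := fun h => by
    simp [N]
  have hshift : ∀ h, N (x h) = N h := by
    intro h
    rw [hN, hN]
    have h1 := Finset.prod_range_succ' (fun i => (x ^ i) h) p
    have h2 := Finset.prod_range_succ (fun i => (x ^ i) h) p
    rw [h2, b.pow] at h1
    simp only [pow_zero, MulAut.one_apply] at h1
    rw [mul_left_inj] at h1
    rw [h1]
    exact Finset.prod_congr rfl fun i _ => by rw [pow_succ]; rfl
  have hker : cm x ⊤ ≤ N.ker := by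
    rw [cm, closure_le]
    rintro _ ⟨h, -, i, rfl⟩
    rw [SetLike.mem_coe, MonoidHom.mem_ker, map_mul, map_inv, inv_mul_eq_one]
    induction i with
    | zero => rfl
    | succ i ih => rw [pow_succ_apply, hshift]; exact ih
  rw [b.top] at hker
  have h1 : N y = 1 := hker (mem_top y)
  rw [hN, Finset.prod_eq_pow_card (b := y) (fun i _ => fx_pow hy i), Finset.card_range] at h1
  have h2 : orderOf y ∣ Nat.gcd (Nat.card H) p :=
    Nat.dvd_gcd (orderOf_dvd_natCard y) (orderOf_dvd_of_pow_eq_one h1)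
  rw [b.cop, Nat.dvd_one, orderOf_eq_one_iff] at h2
  rw [h2]; exact (fk x).one_mem

theorem Bad.nontrivial : Nontrivial H := by
  by_contra h
  rw [not_nontrivial_iff_subsingleton] at h
  exact b.not_comm fun a c => Subsingleton.elim _ _

/-- The derived subgroup is not central. -/
theorem Bad.not_class_two : ¬ ∀ a c g : H, g * ⁅a, c⁆ = ⁅a, c⁆ * g := by
  intro h2
  have hsol := b.sol
  haveI := b.nontrivial
  have hlt : commutator H < ⊤ := Group.IsSolvable.commutator_lt_top_of_nontrivial H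
  have mr : ∀ a c d : H, ⁅a, c * d⁆ = ⁅a, c⁆ * ⁅a, d⁆ := by
    intro a c d
    calc ⁅a, c * d⁆ = ⁅a, c⁆ * (c * ⁅a, d⁆ * c⁻¹) := by simp [commutatorElement_def, mul_assoc]
      _ = _ := by rw [h2 a d c, mul_inv_cancel_right]
  have ml : ∀ a c d : H, ⁅a * c, d⁆ = ⁅a, d⁆ * ⁅c, d⁆ := by
    intro a c d
    calc ⁅a * c, d⁆ = (a * ⁅c, d⁆ * a⁻¹) * ⁅a, d⁆ := by simp [commutatorElement_def, mul_assoc]
      _ = _ := by rw [h2 c d a, mul_inv_cancel_right, h2 a d ⁅c, d⁆]
  have ir : ∀ a c : H, ⁅a, c⁻¹⁆ = ⁅a, c⁆⁻¹ := fun a c =>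
    eq_inv_of_mul_eq_one_left (by rw [← mr, inv_mul_cancel]; simp [commutatorElement_def])
  have hDc : ∀ z ∈ commutator H, ∀ g, g * z = z * g := by
    intro z hz g
    rw [commutator_eq_closure] at hz
    induction hz using Subgroup.closure_induction with
    | mem s hs => obtain ⟨a, c, rfl⟩ := hs; exact h2 a c g
    | one => simp
    | mul a c _ _ ha hc => exact ((show Commute g a from ha).mul_right (show Commute g c from hc)).eq
    | inv a _ ha => exact (show Commute g a from ha).inv_right.eq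
  have hDi : Inv x (commutator H) := inv_commutator inv_top inv_top
  have hDT : Tr x (commutator H) := by
    by_contra ht
    obtain ⟨n, -, hn⟩ := b.exists_supp inferInstance hDi hlt.ne ht
    refine b.gsne n (eq_top_iff.mpr ?_)
    rw [← hn, sup_le_iff, and_iff_left le_rfl, commutator_eq_closure, closure_le]
    rintro _ ⟨a, c, rfl⟩
    have ha : a ∈ commutator H ⊔ gs x n := by rw [hn]; exact mem_top a
    have hc : c ∈ commutator H ⊔ gs x n := by rw [hn]; exact mem_top c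
    rw [mem_sup_of_normal_left] at ha hc
    obtain ⟨z, hz, r, hr, rfl⟩ := ha
    obtain ⟨w, hw, s, hs, rfl⟩ := hc
    have hz' : ∀ g : H, ⁅z, g⁆ = 1 := fun g => commutatorElement_eq_one_iff_mul_comm.mpr (hDc z hz g).symm
    have hw' : ∀ g : H, ⁅g, w⁆ = 1 := fun g => commutatorElement_eq_one_iff_mul_comm.mpr (hDc w hw g)
    have e : ⁅z * r, w * s⁆ = ⁅r, s⁆ := by
      rw [ml, mr, mr, hz', hz', hw']; simp
    rw [SetLike.mem_coe, e]
    exact (gs x n).mul_mem ((gs x n).mul_mem ((gs x n).mul_mem hr hs) ((gs x n).inv_mem hr))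
      ((gs x n).inv_mem hs)
  have hfix : ∀ a c : H, ⁅x a, x c⁆ = ⁅a, c⁆ := fun a c => by
    rw [← map_commutatorElement]
    exact (hDT _ (commutator_mem_commutator (mem_top a) (mem_top c))).1
  have hpowfix : ∀ (i : ℕ) (a c : H), ⁅(x ^ i) a, (x ^ i) c⁆ = ⁅a, c⁆ := by
    intro i
    induction i with
    | zero => intro a c; rfl
    | succ i ih => intro a c; rw [pow_succ_apply, pow_succ_apply, hfix]; exact ih a c
  have hcen : ∀ c ∈ fx x, ∀ g, g * c = c * g := by
    intro c hc g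
    have hg : g ∈ cm x ⊤ := by rw [b.top]; exact mem_top g
    have hle : cm x ⊤ ≤ centralizer {c} := by
      rw [cm, closure_le]
      rintro _ ⟨h, -, i, rfl⟩
      rw [SetLike.mem_coe, mem_centralizer_singleton_iff]
      have e : ⁅c, h⁻¹ * (x ^ i) h⁆ = 1 := by
        have := hpowfix i c h
        rw [fx_pow hc] at this
        rw [mr, ir, this, inv_mul_cancel]
      exact (commutatorElement_eq_one_iff_mul_comm.mp e).symm
    exact mem_centralizer_singleton_iff.mp (hle hg)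
  have hself : ∀ h : H, ⁅h, x h⁆ = 1 := by
    intro h
    obtain ⟨c, hc, n, hn, rfl, -⟩ := exists_gs_eq b.pow b.cop h
    have hmem : ⁅n, x n⁆ ∈ gs x (c * n) := by
      rw [commutatorElement_def]
      exact mul_mem (mul_mem (mul_mem hn (inv_gs _ _ hn)) (inv_mem hn)) (inv_mem (inv_gs _ _ hn))
    have hin : ⁅n, x n⁆ ∈ commutator H := commutator_mem_commutator (mem_top _) (mem_top _)
    have h1 : ⁅n, x n⁆ = 1 := b.central_one (hDT _ hin).2 (mem_fk hmem (hDT _ hin).1)
    have hz : ∀ g : H, ⁅c, g⁆ = 1 := fun g => commutatorElement_eq_one_iff_mul_comm.mpr (hcen c hc g).symm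
    have hz' : ∀ g : H, ⁅g, c⁆ = 1 := fun g => commutatorElement_eq_one_iff_mul_comm.mpr (hcen c hc g)
    rw [map_mul, show x c = c from hc, ml, mr, mr, hz c, hz (x n), hz' n, h1]; simp
  have hx2 : ∀ c a : H, a * (c⁻¹ * (x ^ 2) c) = c⁻¹ * (x ^ 2) c * a := by
    intro c a
    rw [← commutatorElement_eq_one_iff_mul_comm, mr, ir, inv_mul_eq_one]
    have h1 := hself (a * x c)
    rw [map_mul, ml, mr, mr, hself a, hself (x c), one_mul, mul_one] at h1
    rw [hfix c a] at h1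
    rw [show (x ^ 2) c = x (x c) by rw [pow_succ_apply, pow_one], eq_inv_of_mul_eq_one_left h1,
      commutatorElement_inv]
  have hxi : ∀ k : ℕ, ∀ c a : H, a * (c⁻¹ * (x ^ (2 * k)) c) = c⁻¹ * (x ^ (2 * k)) c * a := by
    intro k
    induction k with
    | zero => intro c a; simp
    | succ k ih =>
      intro c a
      have e : c⁻¹ * (x ^ (2 * (k + 1))) c =
          (c⁻¹ * (x ^ 2) c) * (((x ^ 2) c)⁻¹ * (x ^ (2 * k)) ((x ^ 2) c)) := by
        rw [mul_add, pow_add, mul_one, MulAut.mul_apply]; group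
      rw [e]
      exact ((show Commute a _ from hx2 c a).mul_right (show Commute a _ from ih _ a)).eq
  refine b.not_comm fun a c => ?_
  have hc : c ∈ cm x ⊤ := by rw [b.top]; exact mem_top c
  have hle : cm x ⊤ ≤ centralizer {a} := by
    rw [cm, closure_le]
    rintro _ ⟨h, -, i, rfl⟩
    rw [SetLike.mem_coe, mem_centralizer_singleton_iff]
    obtain ⟨q, hq⟩ : Odd p := hp.out.odd_of_ne_two b.odd
    have e : x ^ i = x ^ (2 * (i * (q + 1))) := by
      rw [show 2 * (i * (q + 1)) = p * i + i by rw [hq]; ring, pow_add, pow_mul, b.pow, one_pow,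
        one_mul]
    rw [e]
    exact (hxi _ h a).symm
  exact (mem_centralizer_singleton_iff.mp (hle hc)).symm

end CfsgLib.FixedComm
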