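import Cfsg.Agent.Lib.FixedComm.Minimal

/-!
# Fixed points of a coprime odd prime order automorphism in `[H, P]`
-/

set_option autoImplicit false

open Subgroup
open scoped commutatorElement

namespace CfsgLib.FixedComm

universe u

section Ring

variable {E R : Type*} [Ring E] [CommGroup R]

theorem quadratic_annihilator (φ : R →* E) (σ : R → R) (X Y A B C : E)
    (hX : ∀ r, X * φ r = φ (σ r) * X) (hY : X * X * Y = 1)
    (hA : ∀ r, A * φ r = φ r * A) (hB : ∀ r, B * φ r = φ r * B) (hC : ∀ r, C * φ r = φ r * C)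
    (hrel : A * X * X + B * X + C = 0) (r s : R) :
    A * (φ (σ (σ r)) - φ r) * (φ (σ (σ s)) - φ (σ s)) = 0 := by
  have hXX : ∀ t, X * X * φ t = φ (σ (σ t)) * (X * X) := fun t => by
    rw [mul_assoc, hX, ← mul_assoc, hX, mul_assoc]
  have hφ : ∀ a b : R, φ a * φ b = φ b * φ a := fun a b => by rw [← map_mul, ← map_mul, mul_comm]
  set A' := A * (φ (σ (σ r)) - φ r) with hA'
  set B' := B * (φ (σ r) - φ r) with hB'
  have h1 : A' * (X * X) + B' * X = 0 := by
    calc A' * (X * X) + B' * X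
        = (A * (φ (σ (σ r)) * (X * X)) + B * (φ (σ r) * X) + C * φ r)
          - ((A * φ r) * (X * X) + (B * φ r) * X + C * φ r) := by rw [hA', hB']; noncomm_ring
      _ = (A * X * X + B * X + C) * φ r - φ r * (A * X * X + B * X + C) := by
          rw [← hXX, ← hX, hA r, hB r]
          nth_rewrite 2 [hC r]
          noncomm_ring
      _ = 0 := by rw [hrel]; simp
  have hA'c : ∀ t, A' * φ t = φ t * A' := fun t => by
    rw [hA']
    calc A * (φ (σ (σ r)) - φ r) * φ t = A * (φ (σ (σ r)) * φ t - φ r * φ t) := by noncomm_ring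
      _ = A * (φ t * φ (σ (σ r)) - φ t * φ r) := by rw [hφ _ t, hφ r t]
      _ = (A * φ t) * (φ (σ (σ r)) - φ r) := by noncomm_ring
      _ = _ := by rw [hA t]; noncomm_ring
  have hB'c : ∀ t, B' * φ t = φ t * B' := fun t => by
    rw [hB']
    calc B * (φ (σ r) - φ r) * φ t = B * (φ (σ r) * φ t - φ r * φ t) := by noncomm_ring
      _ = B * (φ t * φ (σ r) - φ t * φ r) := by rw [hφ _ t, hφ r t]
      _ = (B * φ t) * (φ (σ r) - φ r) := by noncomm_ring
      _ = _ := by rw [hB t]; noncomm_ring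
  have h2 : A' * (φ (σ (σ s)) - φ (σ s)) * (X * X) = 0 := by
    calc A' * (φ (σ (σ s)) - φ (σ s)) * (X * X)
        = (A' * (φ (σ (σ s)) * (X * X)) + B' * (φ (σ s) * X))
          - ((A' * φ (σ s)) * (X * X) + (B' * φ (σ s)) * X) := by noncomm_ring
      _ = (A' * (X * X) + B' * X) * φ s - φ (σ s) * (A' * (X * X) + B' * X) := by
          rw [← hXX, ← hX, hA'c, hB'c]; noncomm_ring
      _ = 0 := by rw [h1]; simp
  calc A' * (φ (σ (σ s)) - φ (σ s)) = A' * (φ (σ (σ s)) - φ (σ s)) * (X * X * Y) := by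
        rw [hY, mul_one]
    _ = A' * (φ (σ (σ s)) - φ (σ s)) * (X * X) * Y := by noncomm_ring
    _ = 0 := by rw [h2, zero_mul]

theorem ann_mul {E : Type*} [Ring E] (Q a c : E) :
    Q * (a * c - 1) = Q * (a - 1) * c + Q * (c - 1) := by noncomm_ring

theorem ann_inv {E : Type*} [Ring E] (Q a c : E) (h : a * c = 1) :
    Q * (c - 1) = -(Q * (a - 1)) * c := by
  calc Q * (c - 1) = -(Q * (a * c - c)) := by rw [h]; noncomm_ring
    _ = _ := by noncomm_ring

theorem ann_shift {E : Type*} [Ring E] (Q a c : E) : Q * (a * c - a) = Q * (a * (c - 1)) := by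
  noncomm_ring

theorem relation_normal {E : Type*} [Ring E] (S a₀ a₁ a₁₀ i X : E) (hs : S * i = a₀)
    (ha : a₁ * a₀ = a₁₀) (hc : S * a₁ = a₁ * S) (hc' : S * a₀ = a₀ * S) (hX : S * (X * i) = X)
    (h : (1 - a₁) * i * (X - 1) + (a₀ - 1) * (X * (i * (X - 1))) = 0) :
    (a₀ - 1) * X * X + (1 - a₁₀) * X + (a₁₀ - a₀) = 0 := by
  have h2 : S * ((1 - a₁) * i * (X - 1) + (a₀ - 1) * (X * (i * (X - 1)))) = 0 := by rw [h, mul_zero]
  calc (a₀ - 1) * X * X + (1 - a₁₀) * X + (a₁₀ - a₀)
      = a₀ * (X - 1) - a₁ * a₀ * (X - 1) + (a₀ * X * (X - 1) - X * (X - 1)) := by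
        rw [← ha]; noncomm_ring
    _ = S * i * (X - 1) - a₁ * (S * i) * (X - 1)
          + (a₀ * (S * (X * i)) * (X - 1) - S * (X * i) * (X - 1)) := by rw [hs, hX]
    _ = S * i * (X - 1) - (S * a₁) * i * (X - 1)
          + ((S * a₀) * (X * i) * (X - 1) - S * (X * i) * (X - 1)) := by
        rw [hc, hc']; noncomm_ring
    _ = S * ((1 - a₁) * i * (X - 1) + (a₀ - 1) * (X * (i * (X - 1)))) := by noncomm_ring
    _ = 0 := h2

end Ring

variable {H : Type u} [Group H] [Finite H] {p : ℕ} [hp : Fact p.Prime] {x : MulAut H}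

theorem Bad.false (b : Bad x p) : False := by
  obtain ⟨M, n, C⟩ := b.exists_conf
  haveI hMn := C.nor
  have hab := b.abelian C
  have hcomEq := b.commutator_eq C
  set R := gs x n with hR
  have hRab : ∀ a c : R, a * c = c * a := fun a c => by
    have h1 : ⁅(a : H), (c : H)⁆ ∈ ⁅R, R⁆ := commutator_mem_commutator a.2 c.2
    rw [show ⁅R, R⁆ = ⊥ from b.supp_comm C, mem_bot, commutatorElement_eq_one_iff_mul_comm] at h1
    exact Subtype.ext h1
  letI : CommGroup R := { (inferInstance : Group R) with mul_comm := hRab }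
  letI : CommGroup M :=
    { (inferInstance : Group M) with mul_comm := fun a c => Subtype.ext (hab a a.2 c c.2) }
  let V := Additive M
  let toEnd : (M →* M) → AddMonoid.End V := fun f => MonoidHom.toAdditive f
  let cj : R →* AddMonoid.End V :=
    { toFun := fun r => toEnd (MulAut.conjNormal (r : H)).toMonoidHom
      map_one' := by
        refine AddMonoidHom.ext fun v => congrArg Additive.ofMul (Subtype.ext ?_)
        show (MulAut.conjNormal (((1 : R) : H)) v.toMul : H) = (v.toMul : H)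
        rw [MulAut.conjNormal_apply]; simp
      map_mul' := fun r r' => by
        refine AddMonoidHom.ext fun v => congrArg Additive.ofMul (Subtype.ext ?_)
        show (MulAut.conjNormal ((r : H) * r') v.toMul : H) =
          (MulAut.conjNormal (r : H) (MulAut.conjNormal (r' : H) v.toMul) : H)
        rw [map_mul]; rfl }
  let xM : M →* M := ((x : H →* H).comp M.subtype).codRestrict M fun m => C.inv m m.2
  let X : AddMonoid.End V := toEnd xM
  let σ : R → R := fun r => ⟨x r, inv_gs n r r.2⟩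
  have cj_apply : ∀ (r : R) (v : M), ((cj r (Additive.ofMul v)).toMul : H) = r * v * (r : H)⁻¹ :=
    fun r v => MulAut.conjNormal_apply (r : H) v
  have hXφ : ∀ r, X * cj r = cj (σ r) * X := by
    intro r
    refine AddMonoidHom.ext fun v => congrArg Additive.ofMul (Subtype.ext ?_)
    show x (MulAut.conjNormal (r : H) v.toMul : H) = (MulAut.conjNormal (x r) (xM v.toMul) : H)
    rw [MulAut.conjNormal_apply, MulAut.conjNormal_apply, map_mul, map_mul, map_inv]; rfl
  have hXpow : ∀ (i : ℕ) (v : V), (((X ^ i) v).toMul : H) = (x ^ i) (v.toMul : H) := by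
    intro i
    induction i with
    | zero => intro v; rfl
    | succ i ih =>
      intro v
      rw [pow_succ', pow_succ_apply, ← ih v]; rfl
  have hXp : X ^ p = 1 := AddMonoidHom.ext fun v => congrArg Additive.ofMul (Subtype.ext (by
    show (((X ^ p) v).toMul : H) = _
    rw [hXpow, b.pow]; rfl))
  have hXY : X * X * X ^ (p - 2) = 1 := by
    rw [← pow_two, ← pow_add, Nat.add_sub_cancel' hp.out.two_le, hXp]
  -- the relation
  set nR : R := ⟨n, C.self⟩ with hnR
  set d0 : R := nR⁻¹ * σ nR with hd0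
  set d1 : R := σ d0 with hd1
  have hmem : ∀ a c : H, ⁅a, c⁆ ∈ M := by
    intro a c
    obtain ⟨m, hm, r, hr, rfl⟩ := C.split a
    obtain ⟨m', hm', r', hr', rfl⟩ := C.split c
    rw [← QuotientGroup.eq_one_iff, ← QuotientGroup.mk'_apply, map_commutatorElement,
      commutatorElement_eq_one_iff_mul_comm]
    simp only [QuotientGroup.mk'_apply, QuotientGroup.mk_mul, (QuotientGroup.eq_one_iff m).mpr hm,
      (QuotientGroup.eq_one_iff m').mpr hm', one_mul]
    rw [← QuotientGroup.mk_mul, ← QuotientGroup.mk_mul]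
    exact congrArg _ (congrArg Subtype.val (hRab ⟨r, hr⟩ ⟨r', hr'⟩))
  have hrel0 : ∀ v : V, (1 - cj d1) (cj nR⁻¹ (X v - v)) + (cj d0 - 1) (X (cj nR⁻¹ (X v - v))) = 0 := by
    intro v
    set vv : H := (v.toMul : H) with hvv
    have hv : vv ∈ M := v.toMul.2
    set h := vv * n with hh
    have hsupp : M ⊔ gs x h = ⊤ := by
      rw [eq_top_iff, ← C.supp, sup_le_iff]
      refine ⟨le_sup_left, ?_⟩
      rw [gs, closure_le]
      rintro _ ⟨i, rfl⟩
      have e : n⁻¹ * (x ^ i) n = (n⁻¹ * vv * n) * (h⁻¹ * (x ^ i) h) *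
          (((x ^ i) n)⁻¹ * ((x ^ i) vv)⁻¹ * (x ^ i) n) := by
        rw [hh, map_mul]; group
      rw [SetLike.mem_coe, e]
      refine mul_mem (mul_mem (mem_sup_left ?_) (mem_sup_right (gs_mem h i))) (mem_sup_left ?_)
      · simpa using hMn.conj_mem vv hv n⁻¹
      · simpa using hMn.conj_mem _ (M.inv_mem (C.inv.pow hv i)) ((x ^ i) n)⁻¹
    have hdis : gs x h ⊓ M = ⊥ := b.inf_eq_bot C rfl hsupp
    set e := h⁻¹ * x h with he
    have hee : e * x e = x e * e := by
      have he1 : e ∈ gs x h := gs_mem_one h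
      have : ⁅e, x e⁆ ∈ gs x h ⊓ M := by
        refine ⟨?_, hmem _ _⟩
        rw [SetLike.mem_coe, commutatorElement_def]
        exact (gs x h).mul_mem ((gs x h).mul_mem ((gs x h).mul_mem he1 (inv_gs h _ he1))
          ((gs x h).inv_mem he1)) ((gs x h).inv_mem (inv_gs h _ he1))
      rw [hdis, mem_bot] at this
      exact commutatorElement_eq_one_iff_mul_comm.mp this
    set w : V := cj nR⁻¹ (X v - v) with hw
    set ww : H := (w.toMul : H) with hww
    have hwval : ww = n⁻¹ * (vv⁻¹ * x vv) * n := by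
      show (MulAut.conjNormal ((nR⁻¹ : R) : H) (xM v.toMul / v.toMul) : H) = _
      rw [MulAut.conjNormal_apply, div_eq_mul_inv, mul_comm (xM v.toMul)]
      show n⁻¹ * (vv⁻¹ * x vv) * n⁻¹⁻¹ = _
      rw [inv_inv]
    have hd0v : (d0 : H) = n⁻¹ * x n := rfl
    have hd1v : (d1 : H) = x (n⁻¹ * x n) := rfl
    have hev : e = ww * d0 := by rw [hwval, hd0v, he, hh, map_mul]; group
    have hxe : x e = x ww * d1 := by rw [hev, map_mul, hd1v, hd0v]
    rw [hev] at hee hxe
    rw [hxe] at hee
    have hdd : (d0 : H) * d1 = d1 * d0 := congrArg Subtype.val (hRab d0 d1)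
    have hkey : ww * ((d0 : H) * x ww * (d0 : H)⁻¹) = x ww * ((d1 : H) * ww * (d1 : H)⁻¹) := by
      calc ww * ((d0 : H) * x ww * (d0 : H)⁻¹)
          = (ww * d0 * (x ww * d1)) * ((d0 : H) * d1)⁻¹ := by group
        _ = (x ww * d1 * (ww * d0)) * ((d1 : H) * d0)⁻¹ := by rw [hee, hdd]
        _ = _ := by group
    have hadd : w + cj d0 (X w) = X w + cj d1 w :=
      congrArg Additive.ofMul (Subtype.ext (show ww * (MulAut.conjNormal (d0 : H) (xM w.toMul) : H) =
        x ww * (MulAut.conjNormal (d1 : H) w.toMul : H) by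
          rw [MulAut.conjNormal_apply, MulAut.conjNormal_apply]; exact hkey))
    show (w - cj d1 w) + (cj d0 (X w) - X w) = 0
    rw [show (w - cj d1 w) + (cj d0 (X w) - X w) = (w + cj d0 (X w)) - (X w + cj d1 w) by abel, hadd,
      sub_self]
  have hcc : ∀ a c : R, cj a * cj c = cj c * cj a := fun a c => by
    rw [← map_mul, ← map_mul, hRab]
  set A := cj d0 - 1 with hA
  set B := 1 - cj (d0 * d1) with hB
  set D := cj (d0 * d1) - cj d0 with hD
  have hrel : A * X * X + B * X + D = 0 := by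
    have h1 : ((1 - cj d1) * cj nR⁻¹ * (X - 1) + (cj d0 - 1) * (X * (cj nR⁻¹ * (X - 1)))) = 0 :=
      AddMonoidHom.ext hrel0
    have hσinv : σ nR⁻¹ = (σ nR)⁻¹ := Subtype.ext (map_inv x (nR : H))
    refine relation_normal (cj (σ nR)) (cj d0) (cj d1) (cj (d0 * d1)) (cj nR⁻¹) X ?_ ?_ (hcc _ _)
      (hcc _ _) ?_ h1
    · rw [← map_mul, hd0, mul_comm]
    · rw [← map_mul, mul_comm]
    · rw [hXφ, ← mul_assoc, hσinv, ← map_mul, mul_inv_cancel, map_one, one_mul]
  have hcom1 : ∀ (t : R) (r : R), (cj t - 1) * cj r = cj r * (cj t - 1) := fun t r => by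
    rw [sub_mul, mul_sub, hcc, one_mul, mul_one]
  have hZ : ∀ r s : R, A * (cj (σ (σ r)) - cj r) * (cj (σ (σ s)) - cj (σ s)) = 0 :=
    quadratic_annihilator cj σ X (X ^ (p - 2)) A B D hXφ hXY (fun r => hcom1 d0 r)
      (fun r => by rw [hB, sub_mul, mul_sub, hcc, one_mul, mul_one])
      (fun r => by rw [hD, sub_mul, mul_sub, hcc, hcc d0 r]) hrel
  -- generation of `R`
  have hgen : ∀ P : R → Prop, P 1 → (∀ a c, P a → P c → P (a * c)) → (∀ a, P a → P a⁻¹) →
      (∀ r : R, P (r⁻¹ * σ r)) → ∀ t, P t := by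
    intro P h1 hm hi hs t
    have hpowR : ∀ i : ℕ, (x ^ i) n ∈ R := fun i => (inv_gs n).pow C.self i
    have hP : ∀ t : H, t ∈ R → ∀ ht : t ∈ R, P ⟨t, ht⟩ := by
      intro t ht
      induction ht using Subgroup.closure_induction with
      | mem s hs' =>
        obtain ⟨i, rfl⟩ := hs'
        intro ht
        induction i with
        | zero =>
          have : (⟨n⁻¹ * (x ^ 0) n, ht⟩ : R) = 1 := Subtype.ext (by simp)
          rw [this]; exact h1
        | succ i ih =>
          have := hm _ _ (ih (subset_closure ⟨i, rfl⟩)) (hs ⟨(x ^ i) n, hpowR i⟩)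
          convert this using 1
          exact Subtype.ext (show n⁻¹ * (x ^ (i + 1)) n =
            n⁻¹ * (x ^ i) n * (((x ^ i) n)⁻¹ * x ((x ^ i) n)) by rw [pow_succ_apply]; group)
      | one => intro _; exact h1
      | mul a c ha hc iha ihc => intro _; exact hm _ _ (iha ha) (ihc hc)
      | inv a ha iha => intro _; exact hi _ (iha ha)
    exact hP t t.2 t.2
  have hσsurj : ∀ r : R, ∃ s, σ s = r := fun r => ⟨⟨(x ^ (p - 1)) r, (inv_gs n).pow r.2 _⟩,
    Subtype.ext (show x ((x ^ (p - 1)) (r : H)) = r by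
      rw [← pow_succ_apply, Nat.sub_add_cancel hp.out.one_le, b.pow]; rfl)⟩
  have hσmul : ∀ a c : R, σ (a * c) = σ a * σ c := fun a c => Subtype.ext (map_mul x (a : H) c)
  -- stage 1
  have hst1 : ∀ (r t : R), A * (cj (σ (σ r)) - cj r) * (cj t - 1) = 0 := by
    intro r
    set Q := A * (cj (σ (σ r)) - cj r) with hQ
    refine hgen (fun t => Q * (cj t - 1) = 0) (by simp) (fun a c ha hc => ?_) (fun a ha => ?_) ?_
    · rw [map_mul, ann_mul, ha, hc]; simp
    · rw [ann_inv Q (cj a) (cj a⁻¹) (by rw [← map_mul, mul_inv_cancel, map_one]), ha]; simp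
    · intro u
      obtain ⟨s, rfl⟩ := hσsurj u
      have h := hZ r s
      rw [← hQ] at h
      have e : cj (σ s) * cj ((σ s)⁻¹ * σ (σ s)) = cj (σ (σ s)) := by rw [← map_mul, mul_inv_cancel_left]
      rw [← e, ann_shift, ← hcom1, ← mul_assoc] at h
      have h2 := congrArg (fun T => T * cj (σ s)⁻¹) h
      simp only [zero_mul] at h2
      rw [mul_assoc, ← map_mul, mul_inv_cancel, map_one, mul_one] at h2
      exact h2
  have hfix : ∀ v : V, (∀ t : R, cj t v = v) → (v.toMul : H) ∈ center H := by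
    intro v hv
    rw [mem_center_iff]
    intro g
    obtain ⟨m, hm, r, hr, rfl⟩ := C.split g
    have h1 : r * (v.toMul : H) * r⁻¹ = (v.toMul : H) :=
      (cj_apply ⟨r, hr⟩ v.toMul).symm.trans (congrArg (fun w : V => (w.toMul : H)) (hv ⟨r, hr⟩))
    rw [mul_assoc, mul_inv_eq_iff_eq_mul.mp h1, ← mul_assoc, hab m hm _ v.toMul.2, mul_assoc]
  -- stage 2
  have hA1 : ∀ (t : R) (v : V), (((A * (cj t - 1)) v).toMul : H) ∈ center H := by
    have hcen : ∀ r : R, ∀ v : V, (((A * (cj (σ (σ r)) - cj r)) v).toMul : H) ∈ center H := by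
      intro r v
      refine hfix _ fun t => sub_eq_zero.mp ?_
      have h := hst1 r t
      have hc : A * (cj (σ (σ r)) - cj r) * (cj t - 1) = (cj t - 1) * (A * (cj (σ (σ r)) - cj r)) := by
        have c1 : Commute (cj t - 1) A :=
          ((show Commute (cj t) (cj d0) from hcc t d0).sub_left (Commute.one_left _)).sub_right
            (Commute.one_right _)
        have c2 : Commute (cj t - 1) (cj (σ (σ r)) - cj r) :=
          ((show Commute (cj t) (cj (σ (σ r))) from hcc t _).sub_left (Commute.one_left _)).sub_right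
            ((show Commute (cj t) (cj r) from hcc t r).sub_left (Commute.one_left _))
        exact (c1.mul_right c2).eq.symm
      rw [hc] at h
      exact DFunLike.congr_fun h v
    have hsq : ∀ r : R, ∀ v : V, (((A * (cj (r⁻¹ * σ (σ r)) - 1)) v).toMul : H) ∈ center H := by
      intro r v
      have := hcen r (cj r⁻¹ v)
      have e : A * (cj (σ (σ r)) - cj r) * cj r⁻¹ = A * (cj (r⁻¹ * σ (σ r)) - 1) := by
        rw [mul_assoc]; congr 1; rw [sub_mul, ← map_mul, ← map_mul, mul_inv_cancel, map_one, mul_comm (σ (σ r))]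
      rw [← e]; exact this
    have hmul : ∀ a c : R, (∀ v : V, (((A * (cj a - 1)) v).toMul : H) ∈ center H) →
        (∀ v : V, (((A * (cj c - 1)) v).toMul : H) ∈ center H) →
        ∀ v : V, (((A * (cj (a * c) - 1)) v).toMul : H) ∈ center H := by
      intro a c ha hc v
      rw [map_mul, ann_mul]
      exact (center H).mul_mem (ha _) (hc v)
    obtain ⟨q, hq⟩ : Odd p := hp.out.odd_of_ne_two b.odd
    refine hgen (fun t => ∀ v : V, (((A * (cj t - 1)) v).toMul : H) ∈ center H) ?_ hmul ?_ ?_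
    · intro v; rw [map_one, sub_self, mul_zero]; exact (center H).one_mem
    · intro a ha v
      rw [ann_inv A (cj a) (cj a⁻¹) (by rw [← map_mul, mul_inv_cancel, map_one])]
      exact (center H).inv_mem (ha _)
    · intro r
      -- `r⁻¹ σ r` is a product of elements `s⁻¹ σ² s`
      have hk : ∀ k : ℕ, ∀ v : V,
          (((A * (cj (r⁻¹ * σ^[2 * k] r) - 1)) v).toMul : H) ∈ center H := by
        intro k
        induction k with
        | zero => intro v; simp only [mul_zero, Function.iterate_zero_apply, inv_mul_cancel, map_one,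
            sub_self]; exact (center H).one_mem
        | succ k ih =>
          have e : r⁻¹ * σ^[2 * (k + 1)] r =
              (r⁻¹ * σ^[2 * k] r) * ((σ^[2 * k] r)⁻¹ * σ (σ (σ^[2 * k] r))) := by
            rw [show 2 * (k + 1) = 2 * k + 1 + 1 from rfl, Function.iterate_succ_apply',
              Function.iterate_succ_apply', mul_assoc, mul_inv_cancel_left]
          rw [e]
          exact hmul _ _ ih (hsq _)
      have hit : ∀ (i : ℕ) (s : R), ((σ^[i] s : R) : H) = (x ^ i) s := by
        intro i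
        induction i with
        | zero => intro s; rfl
        | succ i ih => intro s; rw [Function.iterate_succ_apply', pow_succ_apply, ← ih s]
      have e : σ^[2 * (q + 1)] r = σ r := Subtype.ext (by
        rw [hit, show 2 * (q + 1) = p + 1 by omega, pow_succ_apply, b.pow]; rfl)
      have := hk (q + 1)
      rwa [e] at this
  -- stage 3
  have hnotall : ¬ ∀ m ∈ M, ∀ g : H, ⁅m, g⁆ ∈ center H := by
    intro h
    have hMc : M ≤ center H := by
      rw [← hcomEq, Subgroup.commutator_le]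
      exact fun m hm g _ => h m hm g
    have : ⁅M, (⊤ : Subgroup H)⁆ = ⊥ := by
      rw [eq_bot_iff, Subgroup.commutator_le]
      intro m hm g _
      rw [mem_bot, commutatorElement_eq_one_iff_mul_comm]
      exact (mem_center_iff.mp (hMc hm) g).symm
    rw [hcomEq] at this
    exact C.ntr fun m hm => by rw [this, mem_bot] at hm; subst hm; simp
  let W : Subgroup H := M ⊓ (center H).upperCentralSeriesStep
  have hWmem : ∀ m, m ∈ W ↔ m ∈ M ∧ ∀ g, ⁅m, g⁆ ∈ center H := fun m => Iff.rfl
  have hWi : Inv x W := by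
    intro m hm
    rw [hWmem] at hm ⊢
    refine ⟨C.inv m hm.1, fun g => ?_⟩
    obtain ⟨g', rfl⟩ := x.surjective g
    rw [← map_commutatorElement, mem_center_iff]
    intro k
    obtain ⟨k', rfl⟩ := x.surjective k
    rw [← map_mul, ← map_mul, mem_center_iff.mp (hm.2 g') k']
  have hWT : Tr x W := by
    refine C.small W inferInstance hWi inf_le_left fun h => hnotall fun m hm => ?_
    rw [← h] at hm
    exact ((hWmem m).mp hm).2
  have hAy : ∀ y : V, ((A y).toMul : H) ∈ center H := by
    intro y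
    have hW : ((A y).toMul : H) ∈ W := by
      rw [hWmem]
      refine ⟨(A y).toMul.2, fun g => ?_⟩
      set a : H := ((A y).toMul : H) with ha
      obtain ⟨m, hm, r, hr, rfl⟩ := C.split g
      have h1 := hA1 ⟨r, hr⟩ y
      rw [show A * (cj ⟨r, hr⟩ - 1) = (cj ⟨r, hr⟩ - 1) * A from
        (((show Commute (cj ⟨r, hr⟩) (cj d0) from hcc _ d0).sub_left (Commute.one_left _)).sub_right
          (Commute.one_right _)).eq.symm] at h1
      have h2 : ((((cj ⟨r, hr⟩ - 1) * A) y).toMul : H) = r * a * r⁻¹ * a⁻¹ := by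
        show ((cj ⟨r, hr⟩ (A y)).toMul / (A y).toMul : M) = (_ : H)
        rw [Subgroup.coe_div, div_eq_mul_inv]
        exact congrArg (· * a⁻¹) (cj_apply ⟨r, hr⟩ (A y).toMul)
      rw [h2] at h1
      have h3 : ⁅a, m * r⁆ = ⁅a, m⁆ * (m * (r * a * r⁻¹ * a⁻¹)⁻¹ * m⁻¹) := by
        simp [commutatorElement_def, mul_assoc]
      rw [h3, commutatorElement_eq_one_iff_mul_comm.mpr (hab a (A y).toMul.2 m hm), one_mul]
      exact (inferInstance : (center H).Normal).conj_mem _ ((center H).inv_mem h1) m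
    exact mem_center_iff.mpr (hWT _ hW).2
  have hd0 : ∀ m ∈ M, ⁅(d0 : H), m⁆ ∈ center H := by
    intro m hm
    have := hAy (Additive.ofMul ⟨m, hm⟩)
    rw [show ((A (Additive.ofMul (⟨m, hm⟩ : M))).toMul : H) = (d0 : H) * m * (d0 : H)⁻¹ * m⁻¹ by
      show ((cj d0 (Additive.ofMul (⟨m, hm⟩ : M))).toMul / (⟨m, hm⟩ : M) : M) = (_ : H)
      rw [Subgroup.coe_div, cj_apply, div_eq_mul_inv]] at this
    rwa [commutatorElement_def]
  let T : Subgroup H :=
    { carrier := {g | ∀ m ∈ M, ⁅g, m⁆ ∈ center H}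
      one_mem' := fun m _ => by simp [commutatorElement_def]
      mul_mem' := fun {a c} ha hc m hm => by
        rw [show ⁅a * c, m⁆ = a * ⁅c, m⁆ * a⁻¹ * ⁅a, m⁆ by simp [commutatorElement_def, mul_assoc],
          mem_center_iff.mp (hc m hm) a, mul_inv_cancel_right]
        exact mul_mem (hc m hm) (ha m hm)
      inv_mem' := fun {a} ha m hm => by
        rw [show ⁅a⁻¹, m⁆ = a⁻¹ * ⁅a, m⁆⁻¹ * a⁻¹⁻¹ by simp [commutatorElement_def, mul_assoc]]
        exact (inferInstance : (center H).Normal).conj_mem _ ((center H).inv_mem (ha m hm)) _ }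
  have hTi : Inv x T := fun g hg m hm => by
    have hm' : (x ^ (p - 1)) m ∈ M := C.inv.pow hm _
    have e : m = x ((x ^ (p - 1)) m) := by
      rw [← pow_succ_apply, Nat.sub_add_cancel hp.out.one_le, b.pow]; rfl
    rw [e, ← map_commutatorElement, mem_center_iff]
    intro k
    obtain ⟨k', rfl⟩ := x.surjective k
    rw [← map_mul, ← map_mul, mem_center_iff.mp (hg _ hm') k']
  have hRT : R ≤ T := by
    rw [hR, gs, closure_le]
    rintro _ ⟨i, rfl⟩
    induction i with
    | zero => simp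
    | succ i ih =>
      rw [show n⁻¹ * (x ^ (i + 1)) n = (n⁻¹ * (x ^ i) n) * (x ^ i) ((d0 : H)) by
        show _ = _ * (x ^ i) (n⁻¹ * x n)
        rw [map_mul, map_inv, ← MulAut.mul_apply, ← pow_succ]; group]
      exact T.mul_mem ih (hTi.pow hd0 i)
  refine hnotall fun m hm g => ?_
  obtain ⟨m', hm', r, hr, rfl⟩ := C.split g
  have h1 : m' * r ∈ T := T.mul_mem (fun y hy => by
    rw [commutatorElement_eq_one_iff_mul_comm.mpr (hab m' hm' y hy)]; exact (center H).one_mem) (hRT hr)
  rw [← commutatorElement_inv]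
  exact (center H).inv_mem (h1 m hm)

end CfsgLib.FixedComm
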