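import Cfsg.Agent.Lib.FixedComm.Final

/-!
# Flavell: `C_{[H,P]}(P) = ⟨C_{[h,P]}(P) | h ∈ H⟩` for solvable `H` and coprime `P` of odd prime order
-/

set_option autoImplicit false

open Subgroup

namespace CfsgLib.FixedComm

universe u

theorem cm_inf_fx_le {p : ℕ} [hp : Fact p.Prime] (hp2 : p ≠ 2) :
    ∀ (N : ℕ) (H : Type u) [Group H] [Finite H], Nat.card H = N → Group.IsSolvable H →
      ∀ x : MulAut H, x ^ p = 1 → (Nat.card H).Coprime p → cm x ⊤ ⊓ fx x ≤ fk x := by
  intro N
  induction N using Nat.strong_induction_on with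
  | _ N IH =>
  intro H _ _ hN hsol x hx hcop
  haveI := hsol
  have hsub : ∀ M : Subgroup H, Inv x M → M ≠ ⊤ → cm x M ⊓ fx x ≤ fk x := by
    intro M hM hM'
    let f : M →* M := ((x : H →* H).comp M.subtype).codRestrict M fun m => hM m m.2
    have hinj : Function.Injective f := fun a c e =>
      Subtype.ext (x.injective (congrArg Subtype.val e))
    let y : MulAut M := MulEquiv.ofBijective f (Finite.injective_iff_bijective.mp hinj)
    have hy : ∀ (i : ℕ) (m : M), (((y ^ i) m : M) : H) = (x ^ i) m := by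
      intro i
      induction i with
      | zero => intro m; rfl
      | succ i ih =>
        intro m
        rw [pow_succ_apply, pow_succ_apply, ← ih m]
        rfl
    have hyp : y ^ p = 1 := MulEquiv.ext fun m => Subtype.ext (by rw [hy, hx]; rfl)
    have hlt : Nat.card M < N := by
      rw [← hN]
      exact lt_of_le_of_ne (Nat.le_of_dvd Nat.card_pos M.card_subgroup_dvd_card)
        fun e => hM' (card_eq_iff_eq_top M |>.mp e)
    have h1 := IH _ hlt M rfl inferInstance y hyp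
      (hcop.coprime_dvd_left M.card_subgroup_dvd_card)
    rintro c ⟨hc1, hc2⟩
    have hcM : c ∈ M := cm_le hM hc1
    have hfxy : (⟨c, hcM⟩ : M) ∈ fx y := Subtype.ext (show x c = c from hc2)
    have hmap : cm x M ≤ (cm y ⊤).map M.subtype := by
      rw [cm, closure_le]
      rintro _ ⟨h, hh, i, rfl⟩
      exact ⟨(⟨h, hh⟩ : M)⁻¹ * (y ^ i) ⟨h, hh⟩, cm_mem (mem_top _) i,
        show h⁻¹ * ((((y ^ i) ⟨h, hh⟩ : M)) : H) = _ by rw [hy]⟩
    obtain ⟨c', hc', rfl⟩ := hmap hc1
    have h2 : c' ∈ fk y := h1 ⟨hc', hfxy⟩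
    have h3 : fk y ≤ (fk x).comap M.subtype := by
      refine iSup_le fun m => ?_
      rintro d ⟨hd1, hd2⟩
      have h4 : gs y m ≤ (gs x (m : H)).comap M.subtype := by
        rw [gs, closure_le]
        rintro _ ⟨i, rfl⟩
        show (m : H)⁻¹ * ((((y ^ i) m : M)) : H) ∈ gs x (m : H)
        rw [hy]; exact gs_mem _ i
      exact mem_fk (h4 hd1) (congrArg Subtype.val hd2)
    exact h3 h2
  by_cases htop : cm x (⊤ : Subgroup H) = ⊤
  swap
  · have := hsub _ (inv_cm inv_top) htop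
    rwa [cm_cm hx hcop] at this
  rw [htop, top_inf_eq]
  by_contra hbad
  have hgs : ∀ h, gs x h ≠ ⊤ := fun h e => hbad fun c hc => mem_fk (e ▸ mem_top c) hc
  have hquo : ∀ K : Subgroup H, K.Normal → Inv x K → K ⊓ fx x ≤ fk x → K = ⊥ := by
    intro K hK hKi hKle
    by_contra hne
    haveI := hK
    apply hbad
    let f : H ⧸ K →* H ⧸ K := QuotientGroup.map K K (x : H →* H) (fun k hk => hKi k hk)
    have hsurj : Function.Surjective f := by
      intro q
      obtain ⟨g, rfl⟩ := QuotientGroup.mk_surjective q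
      obtain ⟨g', rfl⟩ := x.surjective g
      exact ⟨(g' : H ⧸ K), rfl⟩
    let z : MulAut (H ⧸ K) := MulEquiv.ofBijective f (Finite.surjective_iff_bijective.mp hsurj)
    have hz : ∀ (i : ℕ) (g : H), (z ^ i) (g : H ⧸ K) = ((x ^ i) g : H) := by
      intro i
      induction i with
      | zero => intro g; rfl
      | succ i ih => intro g; rw [pow_succ_apply, pow_succ_apply, ih g]; rfl
    have hzp : z ^ p = 1 := MulEquiv.ext fun q => by
      obtain ⟨g, rfl⟩ := QuotientGroup.mk_surjective q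
      rw [hz, hx]; rfl
    have hlt : Nat.card (H ⧸ K) < N := by
      rw [← hN, Subgroup.card_eq_card_quotient_mul_card_subgroup K]
      exact lt_mul_of_one_lt_right Nat.card_pos (one_lt_card_iff_ne_bot K |>.mpr hne)
    have h1 := IH _ hlt (H ⧸ K) rfl inferInstance z hzp
      (hcop.coprime_dvd_left (Subgroup.card_quotient_dvd_card K))
    intro c hc
    have hzc : (c : H ⧸ K) ∈ fx z := by
      show f (c : H ⧸ K) = c
      show ((x c : H) : H ⧸ K) = _
      rw [show x c = c from hc]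
    have hcz : (c : H ⧸ K) ∈ cm z ⊤ := by
      have hle : cm x ⊤ ≤ (cm z ⊤).comap (QuotientGroup.mk' K) := by
        rw [cm, closure_le]
        rintro _ ⟨h, -, i, rfl⟩
        show ((h⁻¹ * (x ^ i) h : H) : H ⧸ K) ∈ cm z ⊤
        rw [QuotientGroup.mk_mul, QuotientGroup.mk_inv, ← hz]
        exact cm_mem (mem_top _) i
      exact hle (by rw [htop]; exact mem_top c)
    have h2 : fk z ≤ (fk x).map (QuotientGroup.mk' K) := by
      refine iSup_le fun q => ?_
      obtain ⟨h, rfl⟩ := QuotientGroup.mk_surjective q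
      rintro d ⟨hd1, hd2⟩
      have h3 : gs z (h : H ⧸ K) ≤ (gs x h).map (QuotientGroup.mk' K) := by
        rw [gs, closure_le]
        rintro _ ⟨i, rfl⟩
        exact ⟨h⁻¹ * (x ^ i) h, gs_mem h i, by rw [hz]; rfl⟩
      obtain ⟨e, he, rfl⟩ := h3 hd1
      have h4 : ((x e : H) : H ⧸ K) = (e : H ⧸ K) := hd2
      obtain ⟨a, ha, hae⟩ := exists_fixed hx hcop (inv_inf hKi (inv_gs (x := x) h)) (h := e)
        ⟨QuotientGroup.eq.mp h4.symm, (gs x h).mul_mem ((gs x h).inv_mem he) (inv_gs h _ he)⟩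
      refine ⟨a, mem_fk (h := h) ?_ ha, ?_⟩
      · rw [show a = e * (a⁻¹ * e)⁻¹ by group]
        exact (gs x h).mul_mem he ((gs x h).inv_mem hae.2)
      · exact QuotientGroup.eq.mpr hae.1
    obtain ⟨k, hk, hkc⟩ := h2 (h1 ⟨hcz, hzc⟩)
    have h5 : k⁻¹ * c ∈ K := QuotientGroup.eq.mp hkc
    have h6 : k⁻¹ * c ∈ fk x :=
      hKle ⟨h5, (fx x).mul_mem ((fx x).inv_mem (fk_le_fx hk)) hc⟩
    simpa using (fk x).mul_mem hk h6
  exact Bad.false ⟨hsol, hp2, hx, hcop, hbad, htop, hgs, hsub, hquo⟩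

end CfsgLib.FixedComm
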