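import Cfsg.Agent.Lib.FixedComm.Critical

/-!
# The minimal non-central invariant normal subgroup, and the final operator identity
-/

set_option autoImplicit false

open Subgroup
open scoped commutatorElement

namespace CfsgLib.FixedComm

universe u

variable {H : Type u} [Group H] [Finite H] {p : ℕ} [hp : Fact p.Prime] {x : MulAut H}
  (b : Bad x p)
include b

/-- The minimal non-central invariant normal subgroup, with a supplement. -/
structure Conf (x : MulAut H) (M : Subgroup H) (n : H) : Prop where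
  nor : M.Normal
  inv : Inv x M
  ne : M ≠ ⊤
  ntr : ¬ Tr x M
  small : ∀ N : Subgroup H, N.Normal → Inv x N → N ≤ M → N ≠ M → Tr x N
  self : n ∈ gs x n
  supp : M ⊔ gs x n = ⊤

theorem Bad.exists_conf : ∃ M n, Conf x M n := by
  classical
  have hT : ¬ Tr x (⊤ : Subgroup H) := fun ht => b.not_comm fun a c => (ht c (mem_top c)).2 a
  let S : Set (Subgroup H) := {M | M.Normal ∧ Inv x M ∧ ¬ Tr x M}
  obtain ⟨M, hM⟩ := (Set.toFinite S).exists_minimal ⟨⊤, inferInstance, inv_top, hT⟩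
  obtain ⟨⟨hn, hi, ht⟩, hmin⟩ := hM
  have hsmall : ∀ N : Subgroup H, N.Normal → Inv x N → N ≤ M → N ≠ M → Tr x N := by
    intro N h1 h2 h3 h4
    by_contra h5
    exact h4 (le_antisymm h3 (hmin ⟨h1, h2, h5⟩ h3))
  have hne : M ≠ ⊤ := by
    rintro rfl
    have hsol := b.sol
    haveI := b.nontrivial
    have hlt : commutator H < ⊤ := Group.IsSolvable.commutator_lt_top_of_nontrivial H
    have := hsmall (commutator H) inferInstance (inv_commutator inv_top inv_top) le_top hlt.ne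
    exact b.not_class_two fun a c g =>
      (this _ (commutator_mem_commutator (mem_top a) (mem_top c))).2 g
  obtain ⟨n, h1, h2⟩ := b.exists_supp hn hi hne ht
  exact ⟨M, n, hn, hi, hne, ht, hsmall, h1, h2⟩

variable {M : Subgroup H} {n : H} (C : Conf x M n)
include C

omit [Finite H] hp b in
theorem Conf.split (g : H) : ∃ m ∈ M, ∃ r ∈ gs x n, g = m * r := by
  haveI := C.nor
  have hg : g ∈ M ⊔ gs x n := by rw [C.supp]; exact mem_top g
  rw [mem_sup_of_normal_left] at hg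
  obtain ⟨m, hm, r, hr, e⟩ := hg
  exact ⟨m, hm, r, hr, e.symm⟩

theorem Bad.commutator_eq : ⁅M, (⊤ : Subgroup H)⁆ = M := by
  haveI := C.nor
  by_contra hne
  set M2 := ⁅M, (⊤ : Subgroup H)⁆ with hM2
  have hle : M2 ≤ M := commutator_le_left M ⊤
  have hT := C.small M2 inferInstance (inv_commutator C.inv inv_top) hle hne
  set R := gs x n with hR
  have hcom : ∀ m ∈ M, ∀ r r' : H, r ∈ R → r' ∈ R → m * ⁅r, r'⁆ * m⁻¹ = ⁅r, r'⁆ := by
    intro m hm r r' hr hr'
    have hcz : ∀ s : H, ∃ z, (∀ g, g * z = z * g) ∧ m * s * m⁻¹ = z * s := fun s =>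
      ⟨⁅m, s⁆, (hT _ (commutator_mem_commutator hm (mem_top s))).2,
        by rw [commutatorElement_def]; group⟩
    obtain ⟨z, hz, ez⟩ := hcz r
    obtain ⟨w, hw, ew⟩ := hcz r'
    rw [show m * ⁅r, r'⁆ * m⁻¹ = ⁅m * r * m⁻¹, m * r' * m⁻¹⁆ by
      simp only [commutatorElement_def]; group, ez, ew, commutatorElement_def, commutatorElement_def,
      mul_inv_rev, mul_inv_rev]
    calc z * r * (w * r') * (r⁻¹ * z⁻¹) * (r'⁻¹ * w⁻¹)
        = (r * z) * (r' * w) * (r⁻¹ * z⁻¹) * (r'⁻¹ * w⁻¹) := by rw [hz r, hw r']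
      _ = r * (z * r') * (w * r⁻¹) * (z⁻¹ * r'⁻¹) * w⁻¹ := by group
      _ = r * (r' * z) * (r⁻¹ * w) * (z⁻¹ * r'⁻¹) * w⁻¹ := by rw [hz r', hw r⁻¹]
      _ = r * r' * (z * r⁻¹) * (w * (z⁻¹ * r'⁻¹)) * w⁻¹ := by group
      _ = r * r' * (r⁻¹ * z) * ((z⁻¹ * r'⁻¹) * w) * w⁻¹ := by rw [hz r⁻¹, hw (z⁻¹ * r'⁻¹)]
      _ = r * r' * r⁻¹ * r'⁻¹ := by group
  have hS : ⁅R, R⁆ = ⊥ := by
    have hSR : ⁅R, R⁆ ≤ R := commutator_le_self R
    refine b.quo _ ⟨fun s hs g => ?_⟩ (inv_commutator (inv_gs n) (inv_gs n))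
      (fun c hc => mem_fk (hSR hc.1) hc.2)
    obtain ⟨m, hm, r, hr, rfl⟩ := C.split g
    have h1 : r * s * r⁻¹ ∈ ⁅R, R⁆ := by
      have hle' : ⁅R, R⁆ ≤ ⁅R, R⁆.comap (MulAut.conj r).toMonoidHom := by
        rw [Subgroup.commutator_le]
        intro a ha c hc
        rw [mem_comap, map_commutatorElement]
        exact commutator_mem_commutator (R.mul_mem (R.mul_mem hr ha) (R.inv_mem hr))
          (R.mul_mem (R.mul_mem hr hc) (R.inv_mem hr))
      exact hle' hs
    rw [show m * r * s * (m * r)⁻¹ = m * (r * s * r⁻¹) * m⁻¹ by group]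
    have hfix : ∀ t ∈ ⁅R, R⁆, m * t * m⁻¹ = t := by
      intro t ht
      have hle' : ⁅R, R⁆ ≤ centralizer {m} := by
        rw [Subgroup.commutator_le]
        intro a ha c hc
        rw [mem_centralizer_singleton_iff]
        exact (mul_inv_eq_iff_eq_mul.mp (hcom m hm a c ha hc)).symm
      rw [mul_inv_eq_iff_eq_mul]
      exact (mem_centralizer_singleton_iff.mp (hle' ht)).symm
    rw [hfix _ h1]; exact h1
  have hder : ∀ a c : H, ⁅a, c⁆ ∈ M2 := by
    intro a c
    obtain ⟨m, hm, r, hr, rfl⟩ := C.split a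
    obtain ⟨m', hm', r', hr', rfl⟩ := C.split c
    rw [← QuotientGroup.eq_one_iff]
    have hz : ∀ y ∈ M, ∀ g : H, Commute (y : H ⧸ M2) (g : H ⧸ M2) := by
      intro y hy g
      have h1 : ((⁅y, g⁆ : H) : H ⧸ M2) = 1 :=
        (QuotientGroup.eq_one_iff _).mpr (commutator_mem_commutator hy (mem_top g))
      rw [← QuotientGroup.mk'_apply, map_commutatorElement,
        commutatorElement_eq_one_iff_mul_comm] at h1
      exact h1
    rw [← QuotientGroup.mk'_apply, map_commutatorElement, commutatorElement_eq_one_iff_mul_comm]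
    simp only [QuotientGroup.mk'_apply, QuotientGroup.mk_mul]
    have hrr : Commute (r : H ⧸ M2) (r' : H ⧸ M2) := by
      have h1 : ⁅r, r'⁆ = 1 := by
        have := commutator_mem_commutator hr hr'
        rwa [hS, mem_bot] at this
      show (r : H ⧸ M2) * r' = r' * r
      rw [← QuotientGroup.mk_mul, ← QuotientGroup.mk_mul,
        commutatorElement_eq_one_iff_mul_comm.mp h1]
    exact (((hz m hm m').mul_right (hz m hm r')).mul_left
      (((hz m' hm' r).symm).mul_right hrr)).eq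
  exact b.not_class_two fun a c g => (hT _ (hder a c)).2 g

theorem Bad.abelian : ∀ a ∈ M, ∀ c ∈ M, a * c = c * a := by
  haveI := C.nor
  have hsol := b.sol
  have hMne : M ≠ ⊥ := fun h => C.ntr fun m hm => by
    rw [h, mem_bot] at hm; subst hm; simp
  have hlt : ⁅M, M⁆ < M := Group.IsSolvable.commutator_lt_of_ne_bot hMne
  have hY := C.small ⁅M, M⁆ inferInstance (inv_commutator C.inv C.inv) hlt.le hlt.ne
  have hc2 : ∀ a ∈ M, ∀ c ∈ M, ∀ g, g * ⁅a, c⁆ = ⁅a, c⁆ * g := fun a ha c hc =>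
    (hY _ (commutator_mem_commutator ha hc)).2
  have hM0 : cm x M ≤ M := cm_le C.inv
  have h0 : ∀ a ∈ cm x M, ∀ c ∈ cm x M, ⁅a, c⁆ = 1 := by
    intro a ha c hc
    have h1 : ⁅a, c⁆ ∈ cm x M := by
      rw [commutatorElement_def]
      exact mul_mem (mul_mem (mul_mem ha hc) (inv_mem ha)) (inv_mem hc)
    have h2 : ⁅a, c⁆ ∈ ⁅M, M⁆ := commutator_mem_commutator (hM0 ha) (hM0 hc)
    exact b.central_one (hY _ h2).2 (b.sub M C.inv C.ne ⟨h1, (hY _ h2).1⟩)
  have hC : ∀ c ∈ M, c ∈ fx x → ∀ a ∈ cm x M, ⁅c, a⁆ = 1 := by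
    intro c hcM hc a ha
    have hle : cm x M ≤ centralizer {c} := by
      rw [cm, closure_le]
      rintro _ ⟨h, hh, i, rfl⟩
      rw [SetLike.mem_coe, mem_centralizer_singleton_iff]
      refine (commutatorElement_eq_one_iff_mul_comm.mp ?_).symm
      have hi : (x ^ i) ⁅c, h⁆ = ⁅c, h⁆ := fx_pow (hY _ (commutator_mem_commutator hcM hh)).1 i
      rw [map_commutatorElement, fx_pow hc] at hi
      calc ⁅c, h⁻¹ * (x ^ i) h⁆ = ⁅c, h⁻¹⁆ * (h⁻¹ * ⁅c, (x ^ i) h⁆ * h) := by
            simp [commutatorElement_def, mul_assoc]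
        _ = ⁅c, h⁻¹⁆ * (h⁻¹ * ⁅c, h⁆ * h) := by rw [hi]
        _ = 1 := by simp [commutatorElement_def, mul_assoc]
    exact commutatorElement_eq_one_iff_mul_comm.mpr
      (mem_centralizer_singleton_iff.mp (hle ha)).symm
  have hcenM0 : ∀ a ∈ cm x M, ∀ y ∈ M, y * a = a * y := by
    intro a ha y hy
    obtain ⟨c, hc, hcM, z, hz, rfl⟩ := exists_cm_eq b.pow b.cop C.inv hy
    exact ((show Commute c a from commutatorElement_eq_one_iff_mul_comm.mp (hC c hcM hc a ha)).mul_left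
      (show Commute z a from commutatorElement_eq_one_iff_mul_comm.mp (h0 z hz a ha))).eq
  set Z := M ⊓ centralizer (M : Set H) with hZ
  have hZi : Inv x Z := by
    rintro z ⟨hz1, hz2⟩
    refine ⟨C.inv z hz1, ?_⟩
    show x z ∈ centralizer (M : Set H)
    rw [mem_centralizer_iff]
    intro y hy
    obtain ⟨y', rfl⟩ := x.surjective y
    have hy' : y' ∈ M := by
      have := C.inv.pow hy (p - 1)
      rwa [← MulAut.mul_apply, ← pow_succ, Nat.sub_add_cancel hp.out.one_le, b.pow] at this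
    rw [← map_mul, ← map_mul, mem_centralizer_iff.mp hz2 y' hy']
  by_cases hZM : Z = M
  · intro a ha c hc
    have : c ∈ Z := hZM.symm ▸ hc
    exact mem_centralizer_iff.mp this.2 a ha
  · exfalso
    have hZT := C.small Z inferInstance hZi inf_le_left hZM
    have hM0Z : cm x M ≤ Z := fun a ha => ⟨hM0 ha, mem_centralizer_iff.mpr fun y hy => hcenM0 a ha y hy⟩
    have hM0' : cm x M = ⊥ :=
      b.tr_bot (fun a ha => hZT a (hM0Z ha))
        (fun a ha => b.sub M C.inv C.ne ⟨ha, (hZT a (hM0Z ha)).1⟩)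
    have hfix : ∀ m ∈ M, x m = m := by
      intro m hm
      have h1 : m⁻¹ * (x ^ 1) m ∈ cm x M := cm_mem hm 1
      rw [hM0', mem_bot, pow_one, inv_mul_eq_one] at h1
      exact h1.symm
    refine C.ntr fun m hm => ⟨hfix m hm, fun g => ?_⟩
    have hg : g ∈ cm x ⊤ := by rw [b.top]; exact mem_top g
    have hle : cm x ⊤ ≤ centralizer {m} := by
      rw [cm, closure_le]
      rintro _ ⟨h, -, i, rfl⟩
      rw [SetLike.mem_coe, mem_centralizer_singleton_iff]
      have h1 : (x ^ i) (h * m * h⁻¹) = h * m * h⁻¹ :=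
        fx_pow (hfix _ (C.nor.conj_mem m hm h)) i
      rw [map_mul, map_mul, map_inv, fx_pow (hfix m hm) i] at h1
      calc h⁻¹ * (x ^ i) h * m = h⁻¹ * ((x ^ i) h * m * ((x ^ i) h)⁻¹) * (x ^ i) h := by group
        _ = m * (h⁻¹ * (x ^ i) h) := by rw [h1]; group
    exact (mem_centralizer_singleton_iff.mp (hle hg))

theorem Bad.inf_eq_bot {L : Subgroup H} {k : H} (hL : L = gs x k) (hLM : M ⊔ L = ⊤) :
    L ⊓ M = ⊥ := by
  haveI := C.nor
  subst hL
  set D := gs x k ⊓ M with hD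
  have hDn : D.Normal := by
    refine ⟨fun d hd g => ?_⟩
    have hg : g ∈ M ⊔ gs x k := by rw [hLM]; exact mem_top g
    rw [mem_sup_of_normal_left] at hg
    obtain ⟨m, hm, r, hr, rfl⟩ := hg
    have h1 : r * d * r⁻¹ ∈ D :=
      ⟨(gs x k).mul_mem ((gs x k).mul_mem hr hd.1) ((gs x k).inv_mem hr), C.nor.conj_mem d hd.2 r⟩
    rw [show m * r * d * (m * r)⁻¹ = m * (r * d * r⁻¹) * m⁻¹ by group,
      b.abelian C m hm _ h1.2, mul_inv_cancel_right]
    exact h1
  by_cases hDM : D = M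
  · exfalso
    have : M ≤ gs x k := hDM ▸ inf_le_left
    exact b.gsne k (by rw [← hLM, sup_eq_right.mpr this])
  · have hT := C.small D hDn (inv_inf (inv_gs k) C.inv) inf_le_right hDM
    exact b.tr_bot hT fun d hd => mem_fk hd.1 (hT d hd).1

theorem Bad.supp_comm : ⁅gs x n, gs x n⁆ = ⊥ := by
  haveI := C.nor
  have hsol := b.sol
  set R := gs x n with hR
  set S := ⁅R, R⁆ with hS
  have hD : R ⊓ M = ⊥ := b.inf_eq_bot C rfl C.supp
  have hSR : S ≤ R := commutator_le_self R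
  have hSi : Inv x S := inv_commutator (inv_gs n) (inv_gs n)
  have hab := b.abelian C
  have hSRn : ∀ r ∈ R, ∀ s ∈ S, r * s * r⁻¹ ∈ S := by
    intro r hr s hs
    have hle' : S ≤ S.comap (MulAut.conj r).toMonoidHom := by
      rw [hS, Subgroup.commutator_le]
      intro a ha c hc
      rw [mem_comap, map_commutatorElement]
      exact commutator_mem_commutator (R.mul_mem (R.mul_mem hr ha) (R.inv_mem hr))
        (R.mul_mem (R.mul_mem hr hc) (R.inv_mem hr))
    exact hle' hs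
  have hne : M ⊔ S ≠ ⊤ := by
    intro htop
    have hRS : R = S := by
      refine le_antisymm (fun r hr => ?_) hSR
      have hr' : r ∈ M ⊔ S := by rw [htop]; exact mem_top r
      rw [mem_sup_of_normal_left] at hr'
      obtain ⟨m, hm, s, hs, rfl⟩ := hr'
      have : m ∈ R ⊓ M := ⟨by simpa using R.mul_mem hr (R.inv_mem (hSR hs)), hm⟩
      rw [hD, mem_bot] at this
      rwa [this, one_mul]
    by_cases hRb : R = ⊥
    · exact C.ne (by rw [← C.supp, show gs x n = ⊥ from hRb, sup_bot_eq])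
    · exact (Group.IsSolvable.commutator_lt_of_ne_bot hRb).ne hRS.symm
  set J := cm x M ⊔ (fk x ⊓ M) with hJ
  have hJM : J ≤ M := sup_le (cm_le C.inv) inf_le_right
  have key : ∀ s ∈ S, ∀ m ∈ M, s * m * s⁻¹ * m⁻¹ ∈ J := by
    intro s hs m hm
    obtain ⟨c, hc, hcS, s0, hs0, rfl⟩ := exists_cm_eq b.pow b.cop hSi hs
    have hs0X : s0 ∈ cm x (M ⊔ S) := cm_mono le_sup_right hs0
    have h1 : ∀ y ∈ M, s0 * y * s0⁻¹ * y⁻¹ ∈ J := by
      intro y hy
      refine b.meet_le C.inv (inv_sup C.inv hSi) hne le_sup_left ⟨?_, ?_⟩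
      · rw [show s0 * y * s0⁻¹ * y⁻¹ = s0 * (y * s0⁻¹ * y⁻¹) by group]
        exact mul_mem hs0X (cm_conj (mem_sup_left hy) (inv_mem hs0X))
      · exact M.mul_mem (C.nor.conj_mem y hy _) (M.inv_mem hy)
    have hck : c ∈ fk x := mem_fk (hSR hcS) hc
    have h2 : ∀ y ∈ M, c * y * c⁻¹ * y⁻¹ ∈ J := by
      intro y hy
      obtain ⟨d, hd, hdM, z, hz, rfl⟩ := exists_cm_eq b.pow b.cop C.inv hy
      have hz' : c * z * c⁻¹ * z⁻¹ ∈ cm x M := mul_mem (cm_fx_conj hc hz) (inv_mem hz)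
      have hd' : c * d * c⁻¹ * d⁻¹ ∈ fk x ⊓ M := by
        refine ⟨?_, M.mul_mem (C.nor.conj_mem d hdM c) (M.inv_mem hdM)⟩
        rw [show c * d * c⁻¹ * d⁻¹ = c * (d * c⁻¹ * d⁻¹) by group]
        exact (fk x).mul_mem hck (fk_fx_conj hd ((fk x).inv_mem hck))
      rw [show c * (d * z) * c⁻¹ * (d * z)⁻¹ =
        (c * d * c⁻¹ * d⁻¹) * (d * (c * z * c⁻¹ * z⁻¹) * d⁻¹) by group,
        hab d hdM _ (cm_le C.inv hz'), mul_inv_cancel_right]
      exact mul_mem (mem_sup_right hd') (mem_sup_left hz')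
    rw [show c * s0 * m * (c * s0)⁻¹ * m⁻¹ =
      (c * (s0 * m * s0⁻¹) * c⁻¹ * (s0 * m * s0⁻¹)⁻¹) * (s0 * m * s0⁻¹ * m⁻¹) by group]
    exact mul_mem (h2 _ (C.nor.conj_mem m hm s0)) (h1 m hm)
  set W := ⁅S, M⁆ with hW
  have hWJ : W ≤ J := by
    rw [hW, Subgroup.commutator_le]
    intro s hs m hm
    rw [commutatorElement_def]; exact key s hs m hm
  have hWn : W.Normal := by
    refine ⟨fun w hw g => ?_⟩
    obtain ⟨m, hm, r, hr, rfl⟩ := C.split g
    have h1 : r * w * r⁻¹ ∈ W := by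
      have hle' : W ≤ W.comap (MulAut.conj r).toMonoidHom := by
        rw [hW, Subgroup.commutator_le]
        intro a ha c hc
        rw [mem_comap, map_commutatorElement]
        exact commutator_mem_commutator (hSRn r hr a ha) (C.nor.conj_mem c hc r)
      exact hle' hw
    rw [show m * r * w * (m * r)⁻¹ = m * (r * w * r⁻¹) * m⁻¹ by group,
      hab m hm _ (hJM (hWJ h1)), mul_inv_cancel_right]
    exact h1
  have hWb : W = ⊥ := b.quo W hWn (inv_commutator hSi C.inv)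
    ((inf_le_inf_right _ hWJ).trans (b.sup_fixed C.inv C.ne))
  have hSn : S.Normal := by
    refine ⟨fun s hs g => ?_⟩
    obtain ⟨m, hm, r, hr, rfl⟩ := C.split g
    have h1 := hSRn r hr s hs
    have h2 : ⁅r * s * r⁻¹, m⁆ = 1 := by
      have := commutator_mem_commutator h1 hm
      rw [← hW, hWb, mem_bot] at this; exact this
    rw [show m * r * s * (m * r)⁻¹ = m * (r * s * r⁻¹) * m⁻¹ by group,
      ← commutatorElement_eq_one_iff_mul_comm.mp h2, mul_inv_cancel_right]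
    exact h1
  exact b.quo S hSn hSi fun c hc => mem_fk (hSR hc.1) hc.2

end CfsgLib.FixedComm
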